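import Mathlib
import Cfsg.Agent.S0143
import Cfsg.Agent.Lib.SolvStruct.NilParts

/-!
Wielandt's theorem on products of two nilpotent subgroups of coprime orders, part 1:
the setting of a minimal counterexample and the key lemma that no proper subgroup contains
nontrivial normal subgroups of both factors.
-/

set_option autoImplicit false
set_option linter.unusedSectionVars false

namespace CfsgLib.SolvStruct

open Subgroup Pointwise Cfsg

universe u

variable {G : Type u} [Group G]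

/-- `G = AB` with `A`, `B` nilpotent of coprime orders. -/
structure WGood (A B : Subgroup G) : Prop where
  nilA : Group.IsNilpotent A
  nilB : Group.IsNilpotent B
  cop : (Nat.card A).Coprime (Nat.card B)
  fac : IsFactor A B

/-- Minimal counterexample data for Wielandt's theorem. -/
structure WMin (G : Type u) [Group G] : Prop where
  simple : IsSimpleGroup G
  nonsolv : ¬ Group.IsSolvable G
  ih : ∀ L : Subgroup G, L ≠ ⊤ → ∀ A B : Subgroup L, WGood A B → Group.IsSolvable L

variable {A B : Subgroup G}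

theorem isNilpotent_subgroupOf (hA : Group.IsNilpotent A) (L : Subgroup G) :
    Group.IsNilpotent (A.subgroupOf L) := by
  have h1 : Group.IsNilpotent (A ⊓ L : Subgroup G) := CfsgLib.Core.isNilpotent_of_le inf_le_left
  rw [← inf_subgroupOf_right]
  exact Group.nilpotent_of_mulEquiv (subgroupOfEquivOfLe inf_le_right).symm

namespace WGood

theorem symm (h : WGood A B) : WGood B A := ⟨h.nilB, h.nilA, h.cop.symm, h.fac.symm⟩

theorem conj_right (h : WGood A B) (g : G) : WGood A (MulAut.conj g • B) :=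
  ⟨h.nilA, isNilpotent_conj_smul h.nilB g, by rw [card_conj_smul]; exact h.cop,
    h.fac.conj_right g⟩

theorem conj_left (h : WGood A B) (g : G) : WGood (MulAut.conj g • A) B :=
  (h.symm.conj_right g).symm

theorem subgroupOf (h : WGood A B) {L : Subgroup G}
    (hL : IsFactor (A.subgroupOf L) (B.subgroupOf L)) :
    WGood (A.subgroupOf L) (B.subgroupOf L) := by
  refine ⟨isNilpotent_subgroupOf h.nilA L, isNilpotent_subgroupOf h.nilB L, ?_, hL⟩
  rw [card_subgroupOf, card_subgroupOf]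
  exact (h.cop.coprime_dvd_left (card_dvd_of_le inf_le_left)).coprime_dvd_right
    (card_dvd_of_le inf_le_left)

theorem map {K : Type u} [Group K] (h : WGood A B) {f : G →* K} (hf : Function.Surjective f) :
    WGood (A.map f) (B.map f) := by
  have := h.nilA
  have := h.nilB
  exact ⟨CfsgLib.Core.isNilpotent_map f A, CfsgLib.Core.isNilpotent_map f B,
    (h.cop.coprime_dvd_left (card_map_dvd _ _)).coprime_dvd_right (card_map_dvd _ _), h.fac.map hf⟩

theorem inf_eq_bot (h : WGood A B) : A ⊓ B = ⊥ := CfsgLib.Core.inf_eq_bot_of_coprime_card h.cop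

theorem card_eq (h : WGood A B) : Nat.card G = Nat.card A * Nat.card B := by
  have := h.fac.card_mul_card_inf
  rwa [h.inf_eq_bot, card_bot, mul_one] at this

theorem index_eq [Finite G] (h : WGood A B) : A.index = Nat.card B := by
  apply Nat.eq_of_mul_eq_mul_left (Nat.card_pos (α := A))
  rw [card_mul_index, h.card_eq]

theorem coprime_index [Finite G] (h : WGood A B) : (Nat.card A).Coprime A.index := by
  rw [h.index_eq]; exact h.cop

theorem not_dvd_index [Finite G] (h : WGood A B) {p : ℕ} (hp : p.Prime) (hd : p ∣ Nat.card A) :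
    ¬ p ∣ A.index := fun h' =>
  hp.one_lt.ne' (Nat.eq_one_of_dvd_coprimes h.coprime_index hd h')

theorem not_dvd_right (h : WGood A B) {p : ℕ} (hp : p.Prime) (hd : p ∣ Nat.card A) :
    ¬ p ∣ Nat.card B := fun h' =>
  hp.one_lt.ne' (Nat.eq_one_of_dvd_coprimes h.cop hd h')

theorem dvd_or (h : WGood A B) {p : ℕ} (hp : p.Prime) (hd : p ∣ Nat.card G) :
    p ∣ Nat.card A ∨ p ∣ Nat.card B := by
  rw [h.card_eq] at hd
  exact (Nat.Prime.dvd_mul hp).1 hd

theorem not_dvd_index_sylP [Finite G] (h : WGood A B) {p : ℕ} (hp : p.Prime)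
    (hd : p ∣ Nat.card A) : ¬ p ∣ (sylP p A).index := by
  rw [← relIndex_top_right]
  apply not_dvd_relIndex_sylP_of_le h.nilA hp le_top
  rw [relIndex_top_right]
  exact h.not_dvd_index hp hd

/-- A `π(A)`-subgroup normalising `A` lies in `A`. -/
theorem le_of_le_normalizer [Finite G] (h : WGood A B) {U : Subgroup G}
    (hU : ∀ p : ℕ, p.Prime → p ∣ Nat.card U → p ∣ Nat.card A) (hn : U ≤ normalizer (A : Set G)) :
    U ≤ A :=
  CfsgLib.Coprime.le_of_isPiHallOf_of_le_normalizer'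
    (CfsgLib.Coprime.isPiHallOf_top.2 (CfsgLib.Coprime.isPiHall_of_coprime h.coprime_index))
    le_top hU hn

/-- In a factorised subgroup `L`, a normal `p`-subgroup with `p ∈ π(A)` lies in `A`. -/
theorem le_of_normal_in [Finite G] (h : WGood A B) {L U : Subgroup G}
    (hL : IsFactor (A.subgroupOf L) (B.subgroupOf L)) {p : ℕ} (hp : p.Prime)
    (hd : ¬ p ∣ Nat.card B) (hUL : U ≤ L) (hn : L ≤ normalizer (U : Set G)) (hU : IsPGroup p U) :
    U ≤ A := by
  have := Fact.mk hp
  have hi : ¬ p ∣ (A ⊓ L).relIndex L := by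
    rw [inf_relIndex_right]
    intro h'
    apply hd
    have := (h.subgroupOf hL).index_eq
    rw [card_subgroupOf] at this
    rw [relIndex, this] at h'
    exact h'.trans (card_dvd_of_le inf_le_left)
  obtain ⟨k, hk, h1⟩ := exists_le_conj_of_not_dvd_relIndex inf_le_right hi hUL hU
  have h2 := conj_smul_mono k⁻¹ h1
  rw [conj_smul_smul, inv_mul_cancel, map_one, one_smul,
    conj_smul_eq_of_mem_normalizer (hn (inv_mem hk))] at h2
  exact h2.trans inf_le_left

theorem normal_factor [Finite G] (h : WGood A B) (N : Subgroup G) [N.Normal] :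
    IsFactor (A.subgroupOf N) (B.subgroupOf N) := by
  have h1 := coe_eq_mul_of_coprime_relIndex (S := N) (A := A ⊓ N) (B := B ⊓ N) inf_le_right
    inf_le_right (by
      rw [inf_relIndex_right, inf_relIndex_right]
      have h2 := relIndex_dvd_index_of_normal_right A N
      have h3 := relIndex_dvd_index_of_normal_right B N
      rw [h.index_eq] at h2
      rw [h.symm.index_eq] at h3
      exact (h.cop.symm.coprime_dvd_left h2).coprime_dvd_right h3)
  apply isFactor_subgroupOf
  intro g hg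
  have : g ∈ (N : Set G) := hg
  rw [h1] at this
  obtain ⟨a, ha, b, hb, e⟩ := this
  exact ⟨a, ⟨ha.2, ha.1⟩, b, ⟨hb.2, hb.1⟩, e.symm⟩

end WGood

/-- A nilpotent subgroup has a central element of each prime order dividing its order. -/
theorem exists_central_orderOf_eq [Finite G] (hA : Group.IsNilpotent A) {p : ℕ} (hp : p.Prime)
    (hd : p ∣ Nat.card A) : ∃ z ∈ A, orderOf z = p ∧ A ≤ centralizer {z} := by
  have := Fact.mk hp
  have h1 := CfsgLib.Core.inf_centralizer_ne_bot_of_isNilpotent (sylP_le p A)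
    (le_normalizer_sylP p A) (sylP_ne_bot hA hp hd)
  obtain ⟨z, hz, hzp⟩ := CfsgLib.Core.exists_mem_orderOf_eq_of_isPGroup
    ((isPGroup_sylP p A).to_le inf_le_left) h1
  refine ⟨z, sylP_le p A hz.1, hzp, fun a ha => ?_⟩
  rw [mem_centralizer_singleton_iff]
  exact hz.2 a ha

theorem ne_one_of_orderOf_prime {x : G} {p : ℕ} (hp : p.Prime) (hx : orderOf x = p) : x ≠ 1 := by
  rintro rfl
  rw [orderOf_one] at hx
  exact hp.one_lt.ne hx

theorem le_normalizer_zpowers_of_le_centralizer {z : G} (h : A ≤ centralizer {z}) :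
    A ≤ normalizer (zpowers z : Set G) := by
  rw [← CfsgLib.Core.centralizer_zpowers] at h
  exact h.trans (centralizer_le_normalizer _)

namespace WMin

variable [Finite G]

theorem normalizer_ne_top (hG : WMin G) {U : Subgroup G} (h1 : U ≠ ⊥) (h2 : U ≠ ⊤) :
    normalizer (U : Set G) ≠ ⊤ := by
  intro e
  have := hG.simple
  rcases (normalizer_eq_top_iff.1 e).eq_bot_or_eq_top with h | h
  · exact h1 h
  · exact h2 h

theorem ne_top_of_isSolvable (hG : WMin G) {U : Subgroup G} (h : Group.IsSolvable U) : U ≠ ⊤ := by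
  rintro rfl
  exact hG.nonsolv (CfsgLib.Core.isSolvable_of_mulEquiv topEquiv)

theorem centralizer_ne_top (hG : WMin G) {z : G} (hz : z ≠ 1) : centralizer {z} ≠ ⊤ := by
  intro e
  apply hG.normalizer_ne_top (U := zpowers z) (by simpa using hz)
    (hG.ne_top_of_isSolvable inferInstance)
  exact eq_top_iff.2 (le_normalizer_zpowers_of_le_centralizer e.ge)

theorem left_ne_bot (hG : WMin G) (h : WGood A B) : A ≠ ⊥ := by
  intro e
  have h1 := h.fac.sup_eq_top
  rw [e, bot_sup_eq] at h1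
  have := h.nilB
  exact hG.ne_top_of_isSolvable (U := B) inferInstance h1

theorem exists_prime (hG : WMin G) (h : WGood A B) : ∃ p : ℕ, p.Prime ∧ p ∣ Nat.card A :=
  Nat.exists_prime_and_dvd (A.one_lt_card_iff_ne_bot.2 (hG.left_ne_bot h)).ne'

theorem exists_central (hG : WMin G) (h : WGood A B) : ∃ z ∈ A, z ≠ 1 ∧ A ≤ centralizer {z} := by
  obtain ⟨p, hp, hd⟩ := hG.exists_prime h
  obtain ⟨z, h1, h2, h3⟩ := exists_central_orderOf_eq h.nilA hp hd
  exact ⟨z, h1, ne_one_of_orderOf_prime hp h2, h3⟩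

theorem exists_prime_ne (hG : WMin G) (h : WGood A B) {r : ℕ} (hr : r.Prime) :
    ∃ p : ℕ, p.Prime ∧ p ≠ r ∧ p ∣ Nat.card A := by
  by_contra hc
  push Not at hc
  obtain ⟨z, hz, hz1, hzc⟩ := hG.exists_central h.symm
  have h1 : (centralizer {z}).index ∣ Nat.card A := by
    rw [← h.symm.index_eq]
    exact index_dvd_of_le hzc
  have h2 := Nat.eq_prime_pow_of_unique_prime_dvd (p := r)
    (index_ne_zero_of_finite (H := centralizer {z})) fun {d} hd hdd => by
      by_contra hne
      exact hc d hd hne (hdd.trans h1)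
  have := hG.simple
  have h3 := Cfsg.Agent.S0143.result _ _ hr z hz1 h2
  have := Fact.mk h3
  have := isCyclic_of_prime_card (α := G) rfl
  exact hG.nonsolv inferInstance

theorem solvable_of_factor (hG : WMin G) (h : WGood A B) {L : Subgroup G} (hL : L ≠ ⊤)
    (hf : IsFactor (A.subgroupOf L) (B.subgroupOf L)) : Group.IsSolvable L :=
  hG.ih L hL _ _ (h.subgroupOf hf)

/-- Sylow subgroups of the two factors never permute. -/
theorem not_permutes (hG : WMin G) (h : WGood A B) {p q : ℕ} (hp : p.Prime) (hq : q.Prime)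
    (hpA : p ∣ Nat.card A) (hqB : q ∣ Nat.card B) {L : Subgroup G} (hL : L ≠ ⊤)
    (hf : IsFactor (A.subgroupOf L) (B.subgroupOf L)) (h1 : sylP p A ≤ L) (h2 : sylP q B ≤ L) :
    False := by
  have := Fact.mk hp
  have := Fact.mk hq
  have hperm : Permutes (sylP p A) (sylP q B) := by
    refine permutes_of_hall (hG.solvable_of_factor h hL hf) hf h1 h2 (le_normalizer_sylP p A)
      (le_normalizer_sylP q B) ?_ ?_
    · apply CfsgLib.Core.isPGroup_coprime_card (isPGroup_sylP p A)
      apply Nat.Coprime.symm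
      rw [Nat.Prime.coprime_iff_not_dvd hp]
      exact fun h' => h.not_dvd_index_sylP hp hpA (h'.trans (relIndex_dvd_index_of_le h1))
    · apply CfsgLib.Core.isPGroup_coprime_card (isPGroup_sylP q B)
      apply Nat.Coprime.symm
      rw [Nat.Prime.coprime_iff_not_dvd hq]
      exact fun h' => h.symm.not_dvd_index_sylP hq hqB (h'.trans (relIndex_dvd_index_of_le h2))
  obtain ⟨N, hN, hNt, hle⟩ := kegel_exists_normal_top (P := sylP p A) (Q := sylP q B) (by
    intro g
    obtain ⟨x, e1, e2⟩ := h.fac.exists_conj (le_normalizer_sylP p A) (le_normalizer_sylP q B) 1 g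
    rw [map_one, one_smul] at e1
    have h3 := hperm.conj x
    rw [e1, e2] at h3
    refine ⟨h3, fun e => hL ?_⟩
    have h4 : (⊤ : Subgroup G) ≤ MulAut.conj x • L := by
      rw [← e, ← e2]
      refine sup_le ?_ (conj_smul_mono x h2)
      rw [← e1]
      exact conj_smul_mono x h1
    rw [← index_eq_one, ← index_conj_smul L x, index_eq_one, eq_top_iff]
    exact h4)
  have := hG.simple
  rcases hN.eq_bot_or_eq_top with e | e
  · rw [e] at hle
    rcases hle with h3 | h3
    · exact sylP_ne_bot h.nilA hp hpA (le_bot_iff.1 h3)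
    · exact sylP_ne_bot h.nilB hq hqB (le_bot_iff.1 h3)
  · exact hNt e

/-- If a proper subgroup contains `A` it contains no nontrivial normal subgroup of `B`. -/
theorem eq_bot_of_left_le (hG : WMin G) (h : WGood A B) {L B₀ : Subgroup G} (hL : L ≠ ⊤)
    (hA : A ≤ L) (hB : B₀ ≤ L) (hn : B ≤ normalizer (B₀ : Set G)) : B₀ = ⊥ := by
  have h1 : B₀ ≤ L.normalCore := by
    intro x hx g
    obtain ⟨a, ha, b, hb, rfl⟩ := h.fac g
    have : a * b * x * (a * b)⁻¹ = a * (b * x * b⁻¹) * a⁻¹ := by group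
    rw [this]
    exact L.mul_mem (L.mul_mem (hA ha) (hB ((mem_normalizer_iff.1 (hn hb) x).1 hx)))
      (L.inv_mem (hA ha))
  have := hG.simple
  rcases (normalCore_normal L).eq_bot_or_eq_top with e | e
  · rwa [e, le_bot_iff] at h1
  · exact absurd (eq_top_iff.2 (e ▸ L.normalCore_le)) hL

/-- Auxiliary step: a maximal pair of normal subgroups of the factors. -/
theorem sylQ_le_of_maximal (hG : WMin G) (h : WGood A B) {A₀ B₀ : Subgroup G}
    (hA₀ : A₀ ≤ A) (hAn : A ≤ normalizer (A₀ : Set G)) (hBn : B ≤ normalizer (B₀ : Set G))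
    (hmax : ∀ A₁ : Subgroup G, A₁ ≤ A → A ≤ normalizer (A₁ : Set G) → A₀ ≤ A₁ → A₁ ⊔ B₀ ≠ ⊤ →
      A₁ ≤ A₀ ⊔ B₀) {r : ℕ} (hr : r.Prime) (hrB : ¬ r ∣ Nat.card B)
    (hne : sylP r (normalizer ((A₀ ⊔ B₀ : Subgroup G) : Set G)) ≠ ⊥) :
    sylQ r A ≤ normalizer ((A₀ ⊔ B₀ : Subgroup G) : Set G) := by
  have := Fact.mk hr
  set L := normalizer ((A₀ ⊔ B₀ : Subgroup G) : Set G) with hL
  have hf : IsFactor (A.subgroupOf L) (B.subgroupOf L) :=
    isFactor_subgroupOf (h.fac.normalizer_sup hAn hBn)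
  have h1 : sylP r L ≤ A :=
    h.le_of_normal_in hf hr hrB (sylP_le r L) (le_normalizer_sylP r L) (isPGroup_sylP r L)
  have h2 : sylQ r A ≤ normalizer (sylP r L : Set G) :=
    (sylQ_le_centralizer h.nilA hr h1 (isPGroup_sylP r L)).trans (centralizer_le_normalizer _)
  have h3 : normalizer (sylP r L : Set G) ≠ ⊤ := by
    have := (isPGroup_sylP r L).isNilpotent
    exact hG.normalizer_ne_top hne (hG.ne_top_of_isSolvable inferInstance)
  have h4 : A₀ ⊔ B₀ ≤ normalizer (sylP r L : Set G) :=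
    le_normalizer.trans (le_normalizer_sylP r L)
  have h5 := hmax (A₀ ⊔ sylQ r A) (sup_le hA₀ (sylQ_le r A))
    (le_normalizer_sup hAn (le_normalizer_sylQ r A)) le_sup_left (by
      intro e
      apply h3
      rw [eq_top_iff, ← e]
      exact sup_le (sup_le (le_sup_left.trans h4) h2) (le_sup_right.trans h4))
  exact (le_sup_right.trans h5).trans le_normalizer

theorem key_aux (hG : WMin G) (h : WGood A B) {L B₀ : Subgroup G} (hL : L ≠ ⊤)
    (hf : IsFactor (A.subgroupOf L) (B.subgroupOf L)) (hB₀ : B₀ ≤ L) (hB1 : B₀ ≠ ⊥)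
    (hBn : B ≤ normalizer (B₀ : Set G))
    (hA : ∀ r : ℕ, r.Prime → ¬ r ∣ Nat.card B → sylP r L ≠ ⊥ → sylQ r A ≤ L)
    (hB : ∀ r : ℕ, r.Prime → ¬ r ∣ Nat.card A → sylP r L ≠ ⊥ → sylQ r B ≤ L)
    {r : ℕ} (hr : r.Prime) (hrB : ¬ r ∣ Nat.card B) (hne : sylP r L ≠ ⊥) : False := by
  have := Fact.mk hr
  obtain ⟨p, hp, hpr, hpA⟩ := hG.exists_prime_ne h hr
  have := Fact.mk hp
  have hpL : sylP p A ≤ L :=
    (le_sylQ h.nilA (sylP_le p A) (CfsgLib.Core.isPGroup_coprime_card (isPGroup_sylP p A)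
      ((Nat.coprime_primes hr hp).2 hpr.symm))).trans (hA r hr hrB hne)
  by_cases hc : ∃ t : ℕ, t.Prime ∧ t ≠ r ∧ sylP t L ≠ ⊥
  · obtain ⟨t, ht, htr, hne'⟩ := hc
    have := Fact.mk ht
    by_cases htB : t ∣ Nat.card B
    · obtain ⟨q, hq, hqt, hqB⟩ := hG.exists_prime_ne h.symm ht
      have := Fact.mk hq
      refine hG.not_permutes h hp hq hpA hqB hL hf hpL ?_
      exact (le_sylQ h.nilB (sylP_le q B) (CfsgLib.Core.isPGroup_coprime_card (isPGroup_sylP q B)
        ((Nat.coprime_primes ht hq).2 hqt.symm))).trans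
        (hB t ht (h.symm.not_dvd_right ht htB) hne')
    · refine hB1 (hG.eq_bot_of_left_le h hL ?_ hB₀ hBn)
      rw [← sylP_sup_sylQ h.nilA hr]
      refine sup_le ?_ (hA r hr hrB hne)
      exact (le_sylQ h.nilA (sylP_le r A) (CfsgLib.Core.isPGroup_coprime_card (isPGroup_sylP r A)
        ((Nat.coprime_primes ht hr).2 htr))).trans (hA t ht htB hne')
  · push Not at hc
    have hs := hG.solvable_of_factor h hL hf
    have h1 : sylP r L ≤ A :=
      h.le_of_normal_in hf hr hrB (sylP_le r L) (le_normalizer_sylP r L) (isPGroup_sylP r L)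
    have hF : fittingSubgroup L ≤ pCore r L := by
      rw [CfsgLib.Core.fittingSubgroup_eq_iSup_pCore]
      refine iSup_le fun t => ?_
      by_cases e : (t : ℕ) = r
      · rw [e]
      · have := hc t t.2 e
        rw [sylP, map_eq_bot_iff_of_injective _ L.subtype_injective] at this
        rw [this]; exact bot_le
    have h2 : sylP p A ≤ sylP r L := by
      intro x hx
      refine ⟨⟨x, hpL hx⟩, hF (CfsgLib.Core.centralizer_fittingSubgroup_le ?_), rfl⟩
      intro y hy
      apply Subtype.ext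
      exact sylP_le_centralizer h.nilA hp hr hpr h1 (isPGroup_sylP r L) hx y ⟨y, hF hy, rfl⟩
    apply sylP_ne_bot h.nilA hp hpA
    rw [← inf_eq_left.2 h2]
    exact disjoint_iff.1 (IsPGroup.disjoint_of_ne p r hpr _ _ (isPGroup_sylP p A)
      (isPGroup_sylP r L))

/-- Key lemma: nontrivial normal subgroups of the two factors generate the group. -/
theorem key (hG : WMin G) (h : WGood A B) {A₀ B₀ : Subgroup G} (hA₀ : A₀ ≤ A) (hA1 : A₀ ≠ ⊥)
    (hAn : A ≤ normalizer (A₀ : Set G)) (hB₀ : B₀ ≤ B) (hB1 : B₀ ≠ ⊥)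
    (hBn : B ≤ normalizer (B₀ : Set G)) : A₀ ⊔ B₀ = ⊤ := by
  by_contra hne
  obtain ⟨⟨A₁, B₁⟩, ⟨hA₁, hA1', hAn', hB₁, hB1', hBn', hne'⟩, hmax⟩ :=
    exists_maximal_of_wellFoundedGT (fun x : Subgroup G × Subgroup G =>
      x.1 ≤ A ∧ x.1 ≠ ⊥ ∧ A ≤ normalizer (x.1 : Set G) ∧ x.2 ≤ B ∧ x.2 ≠ ⊥ ∧
        B ≤ normalizer (x.2 : Set G) ∧ x.1 ⊔ x.2 ≠ ⊤) ⟨(A₀, B₀), hA₀, hA1, hAn, hB₀, hB1, hBn, hne⟩
  dsimp only at hA₁ hA1' hAn' hB₁ hB1' hBn' hne'
  set L := normalizer ((A₁ ⊔ B₁ : Subgroup G) : Set G) with hL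
  have hLt : L ≠ ⊤ := hG.normalizer_ne_top (fun e => hA1' (le_bot_iff.1 (e ▸ le_sup_left))) hne'
  have hf : IsFactor (A.subgroupOf L) (B.subgroupOf L) :=
    isFactor_subgroupOf (h.fac.normalizer_sup hAn' hBn')
  have hA : ∀ r : ℕ, r.Prime → ¬ r ∣ Nat.card B → sylP r L ≠ ⊥ → sylQ r A ≤ L := by
    intro r hr hrB hn
    refine hG.sylQ_le_of_maximal h hA₁ hAn' hBn' ?_ hr hrB hn
    intro A₂ h1 h2 h3 h4
    have := hmax (y := (A₂, B₁)) ⟨h1, fun e => hA1' (le_bot_iff.1 (e ▸ h3)), h2, hB₁, hB1', hBn', h4⟩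
      ⟨h3, le_rfl⟩
    exact this.1.trans le_sup_left
  have hB : ∀ r : ℕ, r.Prime → ¬ r ∣ Nat.card A → sylP r L ≠ ⊥ → sylQ r B ≤ L := by
    intro r hr hrA hn
    rw [hL, sup_comm] at hn ⊢
    refine hG.sylQ_le_of_maximal h.symm hB₁ hBn' hAn' ?_ hr hrA hn
    intro B₂ h1 h2 h3 h4
    have := hmax (y := (A₁, B₂)) ⟨hA₁, hA1', hAn', h1, fun e => hB1' (le_bot_iff.1 (e ▸ h3)), h2,
      by rwa [sup_comm]⟩ ⟨le_rfl, h3⟩
    exact this.2.trans le_sup_left
  have hs := hG.solvable_of_factor h hLt hf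
  have hAL : A₁ ≤ L := le_sup_left.trans le_normalizer
  have hBL : B₁ ≤ L := le_sup_right.trans le_normalizer
  have : Nontrivial L := (L.nontrivial_iff_ne_bot).2 fun e => hA1' (le_bot_iff.1 (e ▸ hAL))
  obtain ⟨r, hr, hne⟩ := CfsgLib.Core.exists_pCore_ne_bot (G := L)
  have hne2 : sylP r L ≠ ⊥ := by
    rwa [sylP, Ne, map_eq_bot_iff_of_injective _ L.subtype_injective]
  by_cases hrB : r ∣ Nat.card B
  · exact hG.key_aux h.symm hLt hf.symm hAL hA1' hAn' hB hA hr (h.symm.not_dvd_right hr hrB) hne2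
  · exact hG.key_aux h hLt hf hBL hB1' hBn' hA hB hr hrB hne2

end WMin

end CfsgLib.SolvStruct
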