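import Mathlib
import Cfsg.Agent.Lib.Transfer.Abelian
import Cfsg.Agent.Lib.SolvStruct.Wielandt1

/-!
Wielandt's theorem on products of two nilpotent subgroups of coprime orders, part 2.
-/

set_option autoImplicit false
set_option linter.unusedSectionVars false

namespace CfsgLib.SolvStruct

open Subgroup Pointwise Cfsg

universe u

variable {G : Type u} [Group G] {A B : Subgroup G}

theorem centralizer_conj_singleton (z g : G) :
    centralizer {g * z * g⁻¹} = MulAut.conj g • centralizer {z} := by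
  ext x
  rw [mem_conj_smul_iff, mem_centralizer_singleton_iff, mem_centralizer_singleton_iff]
  constructor
  · intro h
    calc g⁻¹ * x * g * z = g⁻¹ * (x * (g * z * g⁻¹)) * g := by group
      _ = _ := by rw [h]; group
  · intro h
    calc x * (g * z * g⁻¹) = g * (g⁻¹ * x * g * z) * g⁻¹ := by group
      _ = _ := by rw [h]; group

theorem mem_centralizer_singleton_comm {x y : G} :
    x ∈ centralizer {y} ↔ y ∈ centralizer {x} := by
  rw [mem_centralizer_singleton_iff, mem_centralizer_singleton_iff, eq_comm]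

theorem sylP_le_centralizer_singleton [Finite G] (hA : Group.IsNilpotent A) {p q : ℕ}
    (hp : p.Prime) (hq : q.Prime) (hpq : p ≠ q) {x : G} (hx : x ∈ A) (hxq : orderOf x = q) :
    sylP p A ≤ centralizer {x} := by
  rw [← CfsgLib.Core.centralizer_zpowers]
  exact sylP_le_centralizer hA hp hq hpq (zpowers_le.2 hx) (isPGroup_zpowers_of_orderOf_eq hxq)

namespace WMin

variable [Finite G]

theorem centralizer_eq (hG : WMin G) (h : WGood A B) {z : G} (hz : z ∈ A) (hz1 : z ≠ 1)
    (hc : A ≤ centralizer {z}) : centralizer {z} = A := by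
  refine le_antisymm (fun x hx => ?_) hc
  obtain ⟨a, ha, b, hb, rfl⟩ := h.fac x
  have hbc : b ∈ centralizer {z} := by
    have := mul_mem (inv_mem (hc ha)) hx
    rwa [inv_mul_cancel_left] at this
  by_cases hb1 : b = 1
  · rw [hb1, mul_one]; exact ha
  exfalso
  obtain ⟨w, hw, hw1, hwc⟩ := hG.exists_central h.symm
  apply hG.centralizer_ne_top hb1
  rw [eq_top_iff, ← hG.key h (zpowers_le.2 hz) (by simpa using hz1)
    (le_normalizer_zpowers_of_le_centralizer hc) (zpowers_le.2 hw) (by simpa using hw1)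
    (le_normalizer_zpowers_of_le_centralizer hwc)]
  exact sup_le (zpowers_le.2 (mem_centralizer_singleton_comm.1 hbc))
    (zpowers_le.2 (mem_centralizer_singleton_comm.1 (hwc hb)))

theorem normalizer_sylP_le (hG : WMin G) (h : WGood A B) {p : ℕ} (hp : p.Prime)
    (hd : p ∣ Nat.card A) : normalizer (sylP p A : Set G) ≤ normalizer (A : Set G) := by
  intro n hn
  obtain ⟨z, hz, hzp, hzc⟩ := exists_central_orderOf_eq h.nilA hp hd
  have hz1 := ne_one_of_orderOf_prime hp hzp
  have hzP : z ∈ sylP p A := mem_sylP h.nilA hz (k := 1) (by rw [pow_one, ← hzp, pow_orderOf_eq_one])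
  have h1 : n * z * n⁻¹ ∈ sylP p A := (mem_normalizer_iff.1 hn z).1 hzP
  have h2 : A ≤ centralizer {n * z * n⁻¹} := by
    rw [← sylP_sup_sylQ h.nilA hp]
    apply sup_le
    · rw [centralizer_conj_singleton, ← conj_smul_eq_of_mem_normalizer hn]
      exact conj_smul_mono n ((sylP_le p A).trans hzc)
    · refine (sylQ_le_centralizer h.nilA hp (sylP_le p A) (isPGroup_sylP p A)).trans ?_
      exact centralizer_le (Set.singleton_subset_iff.2 h1)
  have h3 := hG.centralizer_eq h (sylP_le p A h1) (by simpa using hz1) h2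
  rw [centralizer_conj_singleton, hG.centralizer_eq h hz hz1 hzc] at h3
  exact mem_normalizer_iff_conj_smul_eq.2 h3

theorem mem_normalizer_of_sylP_le (hG : WMin G) (h : WGood A B) {p : ℕ} (hp : p.Prime)
    (hd : p ∣ Nat.card A) {g : G} (hg : sylP p A ≤ MulAut.conj g • A) :
    g ∈ normalizer (A : Set G) := by
  apply hG.normalizer_sylP_le h hp hd
  apply mem_normalizer_of_le_conj_smul
  rw [conj_smul_sylP]
  exact le_sylP (isNilpotent_conj_smul h.nilA g) hg (isPGroup_sylP p A)

/-- A central element of `A` normalises no nontrivial `s`-subgroup for `s ∈ π(B)`. -/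
theorem eq_bot_of_central_normalizes (hG : WMin G) (h : WGood A B) {z : G} (hz : z ∈ A)
    (hz1 : z ≠ 1) (hc : A ≤ centralizer {z}) {s : ℕ} (hs : s.Prime) (hd : s ∣ Nat.card B)
    {S : Subgroup G} (hS : IsPGroup s S) (hn : z ∈ normalizer (S : Set G)) : S = ⊥ := by
  have := Fact.mk hs
  by_contra hne
  obtain ⟨g, hg⟩ := exists_le_conj_of_not_dvd_index (h.symm.not_dvd_index hs hd) hS
  have h' := h.conj_right g
  obtain ⟨q, hq, hqs, hqB⟩ := hG.exists_prime_ne h'.symm hs
  have := hS.isNilpotent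
  apply hG.normalizer_ne_top hne (hG.ne_top_of_isSolvable inferInstance)
  rw [eq_top_iff, ← hG.key h' (zpowers_le.2 hz) (by simpa using hz1)
    (le_normalizer_zpowers_of_le_centralizer hc) (sylP_le q _) (sylP_ne_bot h'.nilB hq hqB)
    (le_normalizer_sylP q _)]
  exact sup_le (zpowers_le.2 hn)
    ((sylP_le_centralizer h'.nilB hq hs hqs hg hS).trans (centralizer_le_normalizer _))

theorem lemmaL (hG : WMin G) (h : WGood A B) {b : G} (hb : b ∈ B)
    (hbn : b ∈ normalizer (A : Set G)) {s : ℕ} (hs : s.Prime) (hbs : orderOf b = s) :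
    centralizer {b} ≤ normalizer (B : Set G) := by
  set X := centralizer ({b} : Set G) with hX
  have hXt : X ≠ ⊤ := hG.centralizer_ne_top (ne_one_of_orderOf_prime hs hbs)
  have hf : IsFactor (B.subgroupOf X) (A.subgroupOf X) := by
    apply isFactor_subgroupOf
    intro x hx
    obtain ⟨β, hβ, a, ha, rfl⟩ := h.fac.symm x
    rw [hX, mem_centralizer_singleton_iff] at hx
    have h1 : β⁻¹ * (b * β * b⁻¹) = a * (b * a * b⁻¹)⁻¹ := by
      calc β⁻¹ * (b * β * b⁻¹) = β⁻¹ * (b * (β * a)) * b⁻¹ * (b * a * b⁻¹)⁻¹ := by group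
        _ = _ := by rw [← hx]; group
    have h2 : β⁻¹ * (b * β * b⁻¹) ∈ A ⊓ B := by
      constructor
      · rw [h1]
        exact A.mul_mem ha (A.inv_mem ((mem_normalizer_iff.1 hbn a).1 ha))
      · exact B.mul_mem (B.inv_mem hβ) (B.mul_mem (B.mul_mem hb hβ) (B.inv_mem hb))
    rw [h.inf_eq_bot, mem_bot] at h2
    rw [h2, eq_comm, mul_inv_eq_one] at h1
    rw [inv_mul_eq_one] at h2
    refine ⟨β, ⟨?_, hβ⟩, a, ⟨?_, ha⟩, rfl⟩
    · exact mem_centralizer_singleton_iff.2 (mul_inv_eq_iff_eq_mul.1 h2.symm).symm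
    · exact mem_centralizer_singleton_iff.2 (mul_inv_eq_iff_eq_mul.1 h1.symm).symm
  have hsolv := hG.solvable_of_factor h.symm hXt hf
  have hsB : s ∣ Nat.card B := hbs ▸ orderOf_dvd_natCard B hb
  obtain ⟨w, hw, hws, hwc⟩ := exists_central_orderOf_eq h.nilB hs hsB
  have hw1 := ne_one_of_orderOf_prime hs hws
  have hwX : w ∈ X := mem_centralizer_singleton_comm.1 (hwc hb)
  have hF : fittingSubgroup X ≤ B.subgroupOf X := by
    rw [CfsgLib.Core.fittingSubgroup_eq_iSup_pCore]
    refine iSup_le fun t => ?_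
    apply map_le_iff_le_comap.1
    by_cases htA : (t : ℕ) ∣ Nat.card A
    · have := hG.eq_bot_of_central_normalizes h.symm hw hw1 hwc t.2 htA (isPGroup_sylP t X)
        (le_normalizer_sylP t X hwX)
      exact this.le.trans bot_le
    · exact h.symm.le_of_normal_in hf t.2 htA (sylP_le t X) (le_normalizer_sylP t X)
        (isPGroup_sylP t X)
  have hwF : (⟨w, hwX⟩ : X) ∈ fittingSubgroup X := by
    apply CfsgLib.Core.centralizer_fittingSubgroup_le
    intro y hy
    exact Subtype.ext (mem_centralizer_singleton_iff.1 (hwc (hF hy)))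
  intro x hx
  have h1 : x * w * x⁻¹ ∈ B :=
    hF ((CfsgLib.Core.fittingSubgroup_normal X).conj_mem _ hwF ⟨x, hx⟩)
  obtain ⟨q, hq, hqs, hqB⟩ := hG.exists_prime_ne h.symm hs
  apply hG.mem_normalizer_of_sylP_le h.symm hq hqB
  rw [← hG.centralizer_eq h.symm hw hw1 hwc, ← centralizer_conj_singleton,
    hG.centralizer_eq h.symm hw hw1 hwc]
  exact sylP_le_centralizer_singleton h.nilB hq hs hqs h1
    (((MulAut.conj x).orderOf_eq w).trans hws)

theorem lemmaM_a (hG : WMin G) (h : WGood A B) {x : G} (hx : x ∈ A) {p : ℕ} (hp : p.Prime)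
    (hxp : orderOf x = p) (hle : centralizer {x} ⊓ normalizer (A : Set G) ≤ A) :
    centralizer {x} ≤ A := by
  have := Fact.mk hp
  set H := centralizer ({x} : Set G) with hH
  have hpA : p ∣ Nat.card A := hxp ▸ orderOf_dvd_natCard A hx
  obtain ⟨r, hr, hrp, hrA⟩ := hG.exists_prime_ne h hp
  have := Fact.mk hr
  have hR : sylP r A ≤ H := sylP_le_centralizer_singleton h.nilA hr hp hrp hx hxp
  have hRi : ¬ r ∣ (sylP r A).relIndex H := fun h' =>
    h.not_dvd_index_sylP hr hrA (h'.trans (relIndex_dvd_index_of_le hR))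
  have hxH : x ∈ H := mem_centralizer_singleton_iff.2 rfl
  -- a Sylow `p`-subgroup of `H` inside `A`
  have hP : ∃ P : Sylow p H, (P : Subgroup H) ≤ A.subgroupOf H := by
    obtain ⟨P₀, h1, h2, h3, h4⟩ := CfsgLib.Coprime.exists_le_sylow_relIndex
      (zpowers_le.2 hxH) (isPGroup_zpowers_of_orderOf_eq hxp)
    obtain ⟨g, hg⟩ := exists_le_conj_of_not_dvd_index (h.not_dvd_index hp hpA) h3
    have h5 : sylP r (MulAut.conj g • A) ≤ H :=
      sylP_le_centralizer_singleton (isNilpotent_conj_smul h.nilA g) hr hp hrp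
        (hg (h1 (mem_zpowers x))) hxp
    obtain ⟨k, hk, h6⟩ := CfsgLib.Coprime.exists_conj_smul_le_sylow hR (isPGroup_sylP r A) hRi
      h5 (isPGroup_sylP r _)
    have h7 : g⁻¹ * k ∈ normalizer (A : Set G) := by
      apply hG.mem_normalizer_of_sylP_le h hr hrA
      have := conj_smul_mono g⁻¹ h6
      rw [← conj_smul_sylP, conj_smul_smul, conj_smul_smul, inv_mul_cancel, map_one,
        one_smul] at this
      exact this.trans (conj_smul_mono _ (sylP_le r A))
    have h8 : MulAut.conj k⁻¹ • P₀ ≤ A := by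
      have := conj_smul_mono k⁻¹ hg
      rw [conj_smul_smul] at this
      refine this.trans (conj_smul_eq_of_mem_normalizer ?_).le
      simpa using inv_mem h7
    obtain ⟨P, hP⟩ := CfsgLib.Coprime.exists_sylow_map_eq (conj_smul_le_of_mem h2 (inv_mem hk))
      (CfsgLib.Coprime.isPGroup_conj_smul _ h3)
      (by rwa [CfsgLib.Coprime.relIndex_conj_smul (le_normalizer (inv_mem hk))])
    exact ⟨P, map_le_iff_le_comap.1 (hP ▸ h8)⟩
  obtain ⟨P, hPA⟩ := hP
  obtain ⟨R, hRe⟩ := CfsgLib.Coprime.exists_sylow_map_eq hR (isPGroup_sylP r A) hRi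
  have hnil := isNilpotent_subgroupOf h.nilA H
  have hPR : (P : Subgroup H) ≤ centralizer ((R : Subgroup H) : Set H) :=
    CfsgLib.Core.le_centralizer_of_coprime_of_le_isNilpotent hPA
      (map_le_iff_le_comap.1 (hRe ▸ sylP_le r A))
      (IsPGroup.coprime_card_of_ne p r hrp.symm _ _ P.isPGroup' R.isPGroup')
  have hcompl : HasNormalPComplement p H := by
    refine CfsgLib.Transfer.hasNormalPComplement_of_control P hPA ?_
      CfsgLib.Transfer.hasNormalPComplement_of_isNilpotent
    intro y hy g hg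
    obtain ⟨u, hu, e⟩ := CfsgLib.Transfer.exists_normalizer_conj_of_mem_centralizer R (hPR hy)
      (hPR hg)
    refine ⟨u, hle ⟨u.2, hG.normalizer_sylP_le h hr hrA ?_⟩, e⟩
    rw [← hRe]
    apply CfsgLib.Core.mem_normalizer_of_forall_conj_mem
    rintro _ ⟨v, hv, rfl⟩
    exact ⟨u * v * u⁻¹, (mem_normalizer_iff.1 hu v).1 hv, rfl⟩
  obtain ⟨K, hKn, hKc, hKp⟩ := CfsgLib.Transfer.hasNormalPComplement_iff_exists_normal.1 hcompl
  obtain ⟨z, hz, hzp, hzc⟩ := exists_central_orderOf_eq h.nilA hp hpA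
  have hzH : z ∈ H := mem_centralizer_singleton_comm.1 (hzc hx)
  have hprimes : ∀ s : ℕ, s.Prime → s ∣ Nat.card H → s ∣ Nat.card A := by
    intro s hs hd
    have := Fact.mk hs
    refine (h.dvd_or hs (hd.trans H.card_subgroup_dvd_card)).resolve_right fun hsB => ?_
    obtain ⟨S, h1, h2, h3, h4⟩ := CfsgLib.Coprime.exists_invariant_sylow' s
      (K := K.map H.subtype) (A := zpowers z)
      ((zpowers_le.2 hzH).trans (CfsgLib.Core.le_normalizer_map_subtype_of_normal K))
      (by rw [Nat.card_zpowers, hzp, card_map_subtype]; exact hKc.symm) (Or.inl inferInstance)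
    have h5 := hG.eq_bot_of_central_normalizes h hz (ne_one_of_orderOf_prime hp hzp) hzc hs hsB h2
      (h4 (mem_zpowers z))
    rw [h5, relIndex_bot_left, card_map_subtype] at h3
    rw [← K.card_mul_index] at hd
    obtain ⟨k, hk⟩ := hKp.exists_card_eq
    have h6 := ((Nat.Prime.dvd_mul hs).1 hd).resolve_left h3
    rw [index, hk] at h6
    rw [(Nat.prime_dvd_prime_iff_eq hs hp).1 (hs.dvd_of_dvd_pow h6)] at hsB
    exact h.not_dvd_right hp hpA hsB
  obtain ⟨g, -, hg⟩ := wielandt_nilpotent_hall (X := ⊤) le_top le_top h.nilA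
    (by rw [relIndex_top_right]; exact h.coprime_index) hprimes
  rwa [conj_smul_eq_of_mem_normalizer (hG.mem_normalizer_of_sylP_le h hr hrA (hR.trans hg))] at hg

theorem lemmaM (hG : WMin G) (h : WGood A B) {x : G} (hx : x ∈ A) {p : ℕ} (hp : p.Prime)
    (hxp : orderOf x = p) : centralizer {x} ≤ normalizer (A : Set G) := by
  by_cases hc : ∀ s : ℕ, s.Prime →
      s ∣ Nat.card ↥(centralizer {x} ⊓ normalizer (A : Set G)) → s ∣ Nat.card A
  · exact (hG.lemmaM_a h hx hp hxp (h.le_of_le_normalizer hc inf_le_right)).trans le_normalizer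
  · push Not at hc
    obtain ⟨s, hs, hd, hsA⟩ := hc
    obtain ⟨b, hb, hbs⟩ := CfsgLib.Core.exists_mem_orderOf_eq_of_dvd_card hs hd
    have hsB : s ∣ Nat.card B :=
      (h.dvd_or hs (hd.trans (card_subgroup_dvd_card _))).resolve_left hsA
    obtain ⟨g, hg⟩ := exists_mem_conj_of_not_dvd_index hs (h.symm.not_dvd_index hs hsB) hbs
    have h' := h.conj_right g
    have h1 := hG.lemmaL h' hg hb.2 hs hbs (mem_centralizer_singleton_comm.1 hb.1)
    exact hG.lemmaL h'.symm hx h1 hp hxp

theorem card_le (hG : WMin G) (h : WGood A B) : Nat.card A ≤ Nat.card B := by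
  have := h.nilA
  have h1 := hG.normalizer_ne_top (hG.left_ne_bot h) (hG.ne_top_of_isSolvable inferInstance)
  obtain ⟨g, hg⟩ : ∃ g : G, g ∉ normalizer (A : Set G) := by
    by_contra hc
    push Not at hc
    exact h1 (eq_top_iff.2 fun g _ => hc g)
  have h2 : A ⊓ MulAut.conj g • A = ⊥ := by
    by_contra hne
    obtain ⟨p, hp, hd⟩ := Nat.exists_prime_and_dvd ((one_lt_card_iff_ne_bot _).2 hne).ne'
    obtain ⟨x, hx, hxp⟩ := CfsgLib.Core.exists_mem_orderOf_eq_of_dvd_card hp hd
    obtain ⟨r, hr, hrp, hrA⟩ := hG.exists_prime_ne h hp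
    have h' := h.conj_left g
    have h3 : sylP r A ≤ normalizer ((MulAut.conj g • A : Subgroup G) : Set G) :=
      (sylP_le_centralizer_singleton h.nilA hr hp hrp hx.1 hxp).trans (hG.lemmaM h' hx.2 hp hxp)
    apply hg
    apply hG.mem_normalizer_of_sylP_le h hr hrA
    refine h'.le_of_le_normalizer (fun s _ hd => ?_) h3
    rw [card_conj_smul]
    exact hd.trans (card_dvd_of_le (sylP_le r A))
  have h3 := CfsgLib.CL.card_mul_le_card_of_subset (H := A) (K := MulAut.conj g • A) (L := ⊤)
    le_top le_top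
  rw [h2, card_bot, mul_one, card_top, card_conj_smul, h.card_eq] at h3
  exact Nat.le_of_mul_le_mul_left h3 Nat.card_pos

theorem false (hG : WMin G) (h : WGood A B) : False := by
  have h1 := le_antisymm (hG.card_le h) (hG.card_le h.symm)
  have h2 := h.cop
  rw [← h1, Nat.coprime_self] at h2
  exact hG.left_ne_bot h (card_eq_one.1 h2)

end WMin

theorem wielandt_aux (n : ℕ) : ∀ (G : Type u) [Group G] [Finite G], Nat.card G = n →
    ∀ A B : Subgroup G, WGood A B → Group.IsSolvable G := by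
  induction n using Nat.strong_induction_on with
  | _ n ih =>
  intro G _ _ hn A B h
  by_contra hns
  have ih' : ∀ L : Subgroup G, L ≠ ⊤ → ∀ A B : Subgroup L, WGood A B → Group.IsSolvable L :=
    fun L hL => ih _ (hn ▸ CfsgLib.Core.card_lt_of_ne_top hL) L rfl
  refine WMin.false ⟨?_, hns, ih'⟩ h
  have : Nontrivial G := by
    by_contra hc
    rw [not_nontrivial_iff_subsingleton] at hc
    exact hns inferInstance
  constructor
  intro N hN
  by_contra hc
  push Not at hc
  have h1 := ih' N hc.2 _ _ (h.subgroupOf (h.normal_factor N))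
  have h2 := ih _ (hn ▸ CfsgLib.Core.card_quotient_lt_of_ne_bot hc.1) (G ⧸ N) rfl _ _
    (h.map (QuotientGroup.mk'_surjective N))
  exact hns (Group.isSolvable_of_ker_le_range N.subtype (QuotientGroup.mk' N) (by simp))

/-- Wielandt: a product of two nilpotent subgroups of coprime orders is solvable. -/
theorem WGood.isSolvable [Finite G] (h : WGood A B) : Group.IsSolvable G :=
  wielandt_aux _ G rfl A B h

end CfsgLib.SolvStruct
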