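import Mathlib
import Cfsg.Agent.Lib.Core.Commutator
import Cfsg.Agent.Lib.SolvStruct.Wielandt2
import Cfsg.Agent.Lib.SolvStruct.Supersolvable3

/-!
The Kegel–Wielandt theorem: a finite product of two nilpotent subgroups is solvable.
-/

set_option autoImplicit false

namespace CfsgLib.SolvStruct

open Subgroup Pointwise Cfsg

universe u

variable {G : Type u} [Group G] {A B : Subgroup G}

theorem IsFactor.exists_sylow_eq_sup_sylP [Finite G] (h : IsFactor A B) (hA : Group.IsNilpotent A)
    (hB : Group.IsNilpotent B) (p : ℕ) [Fact p.Prime] :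
    Permutes (sylP p A) (sylP p B) ∧ ∃ R : Sylow p G, (R : Subgroup G) = sylP p A ⊔ sylP p B := by
  obtain ⟨P, Q, R, e⟩ := h.exists_sylow_mul p
  rw [sylow_map_eq_sylP hA, sylow_map_eq_sylP hB] at e
  have h1 := permutes_of_coe_eq e
  exact ⟨h1, R, SetLike.coe_injective (e.trans h1.coe_sup.symm)⟩

theorem sylP_sup_normal {N : Subgroup G} [N.Normal] (h : B ⊔ N = ⊤) (p : ℕ) :
    (sylP p B ⊔ N).Normal := by
  rw [← normalizer_eq_top_iff, eq_top_iff, ← h]
  exact sup_le (le_normalizer_sup (le_normalizer_sylP p B) (normalizer_eq_top N ▸ le_top))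
    (le_sup_right.trans le_normalizer)

theorem le_sylP_sup_of_sup_eq_top [Finite G] (hB : Group.IsNilpotent B) {N : Subgroup G} [N.Normal]
    (h : B ⊔ N = ⊤) {p : ℕ} (hp : p.Prime) {U : Subgroup G} (hU : IsPGroup p U) :
    U ≤ sylP p B ⊔ N := by
  have := Fact.mk hp
  have := sylP_sup_normal h p
  apply sylow_le_of_normal_of_not_dvd_index hU
  have h1 : IsFactor (sylP p B ⊔ N) B :=
    (isFactor_of_sup_eq_top_of_normal_right h).symm.mono le_sup_right le_rfl
  rw [h1.index_eq_relIndex]
  exact fun h' => not_dvd_relIndex_sylP hB hp (h'.trans (relIndex_dvd_of_le_left B le_sup_left))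

theorem kegel_aux (n : ℕ) : ∀ (G : Type u) [Group G] [Finite G], Nat.card G = n →
    ∀ A B : Subgroup G, Group.IsNilpotent A → Group.IsNilpotent B → IsFactor A B →
      Group.IsSolvable G := by
  induction n using Nat.strong_induction_on with
  | _ n ih =>
  intro G _ _ hn A B hA hB h
  by_contra hns
  by_cases hcop : (Nat.card A).Coprime (Nat.card B)
  · exact hns (WGood.isSolvable ⟨hA, hB, hcop, h⟩)
  obtain ⟨p, hp, hpA, hpB⟩ := Nat.Prime.not_coprime_iff_dvd.1 hcop
  have := Fact.mk hp
  have hq : ∀ (K : Subgroup G) [K.Normal], K ≠ ⊥ → Group.IsSolvable (G ⧸ K) := fun K _ hK =>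
    ih _ (hn ▸ CfsgLib.Core.card_quotient_lt_of_ne_bot hK) (G ⧸ K) rfl _ _
      (CfsgLib.Core.isNilpotent_map _ A) (CfsgLib.Core.isNilpotent_map _ B)
      (h.map (QuotientGroup.mk'_surjective K))
  have hA1 := sylP_ne_bot hA hp hpA
  obtain ⟨N, hN, hN1, -, hmin⟩ := CfsgLib.Core.exists_minimal_normal_le (K := (⊤ : Subgroup G))
    (fun e => hA1 (le_bot_iff.1 (e ▸ le_top)))
  have hNs : ¬ Group.IsSolvable N := fun hs => by
    have := hq N hN1
    exact hns (Group.isSolvable_of_ker_le_range N.subtype (QuotientGroup.mk' N) (by simp))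
  have hle : ∀ (K : Subgroup G) [K.Normal], K ≠ ⊥ → N ≤ K := by
    intro K _ hK
    rcases hmin (K ⊓ N) inferInstance inf_le_right with e | e
    · exfalso
      have := hq K hK
      apply hNs
      refine Group.isSolvable_of_isSolvable_injective
        (f := (QuotientGroup.mk' K).comp N.subtype) ?_
      rw [injective_iff_map_eq_one]
      intro x hx
      have : (x : G) ∈ K ⊓ N := ⟨(QuotientGroup.eq_one_iff _).1 hx, x.2⟩
      rw [e, mem_bot] at this
      exact Subtype.ext this
    · exact inf_eq_right.1 e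
  have htop : ∀ {A B : Subgroup G}, Group.IsNilpotent A → Group.IsNilpotent B → IsFactor A B →
      A ⊔ N = ⊤ := by
    intro A B hA hB h
    by_contra hne
    have := ih _ (hn ▸ CfsgLib.Core.card_lt_of_ne_top hne) _ rfl _ _
      (isNilpotent_subgroupOf hA _) (isNilpotent_subgroupOf hB _) (h.subgroupOf_of_le le_sup_left)
    exact hNs (CfsgLib.Core.isSolvable_of_le (le_sup_right : N ≤ A ⊔ N))
  have hAN := htop hA hB h
  have hBN := htop hB hA h.symm
  have hfin : ∀ {A M : Subgroup G}, A ⊔ N = ⊤ → sylP p A ≠ ⊥ → N ≤ normalizer (M : Set G) →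
      sylP p A ≤ M → sylP p A ⊔ N ≤ M := by
    intro A M hAN hA1 hNM hAM
    have h1 : sylP p A ≤ M.normalCore := by
      intro x hx g
      obtain ⟨m, hm, a, ha, rfl⟩ := (isFactor_of_sup_eq_top_of_normal_right hAN).symm g
      have : m * a * x * (m * a)⁻¹ = m * (a * x * a⁻¹) * m⁻¹ := by group
      rw [this]
      exact (mem_normalizer_iff.1 (hNM hm) _).1
        (hAM ((mem_normalizer_iff.1 (le_normalizer_sylP p A ha) x).1 hx))
    exact sup_le hAM ((hle _ fun e => hA1 (le_bot_iff.1 (e ▸ h1))).trans M.normalCore_le)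
  have hL : sylP p A ⊔ N = sylP p B ⊔ N := le_antisymm
    (sup_le (le_sylP_sup_of_sup_eq_top hB hBN hp (isPGroup_sylP p A)) le_sup_right)
    (sup_le (le_sylP_sup_of_sup_eq_top hA hAN hp (isPGroup_sylP p B)) le_sup_right)
  obtain ⟨M, hM, hMn, hle'⟩ := kegel_exists_normal (L := sylP p A ⊔ N) (P := sylP p A)
    (Q := sylP p B) le_sup_left (hL ▸ le_sup_left) (by
      intro g _
      obtain ⟨h1, R, hR⟩ := (h.conj_right g).exists_sylow_eq_sup_sylP hA
        (isNilpotent_conj_smul hB g) p
      rw [← conj_smul_sylP] at h1 hR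
      refine ⟨h1, fun e => hNs ?_⟩
      have := R.isPGroup'.isNilpotent
      exact CfsgLib.Core.isSolvable_of_le (K := R) (by rw [hR, e]; exact le_sup_right))
  rcases hle' with h1 | h1
  · exact hM.not_ge (hfin hAN hA1 (le_sup_right.trans hMn) h1)
  · exact hM.not_ge (hL ▸ hfin hBN (sylP_ne_bot hB hp hpB) (le_sup_right.trans hMn) h1)

/-- The Kegel–Wielandt theorem. -/
theorem IsFactor.isSolvable_of_isNilpotent [Finite G] (h : IsFactor A B) (hA : Group.IsNilpotent A)
    (hB : Group.IsNilpotent B) : Group.IsSolvable G :=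
  kegel_aux _ G rfl A B hA hB h

theorem le_centralizer_sylP_of_minimal [Finite G] {N : Subgroup G} [hN : N.Normal]
    [hc : IsMulCommutative N] {p : ℕ} [Fact p.Prime] (hNp : IsPGroup p N) (hN1 : N ≠ ⊥)
    (hmin : ∀ M : Subgroup G, M.Normal → M ≤ N → M = ⊥ ∨ M = N) (hAN : A ⊔ N = ⊤) :
    N ≤ centralizer (sylP p A : Set G) := by
  have h1 := CfsgLib.Core.inf_centralizer_ne_bot_of_isPGroup hNp (isPGroup_sylP p A)
    (normalizer_eq_top N ▸ le_top) hN1
  have h2 : (N ⊓ centralizer (sylP p A : Set G)).Normal := by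
    rw [← normalizer_eq_top_iff, eq_top_iff, ← hAN]
    apply sup_le
    · exact le_normalizer_inf (normalizer_eq_top N ▸ le_top)
        ((le_normalizer_sylP p A).trans (CfsgLib.Core.normalizer_le_normalizer_centralizer _))
    · refine le_trans ?_ (centralizer_le_normalizer _)
      intro x hx y hy
      exact CfsgLib.Core.isMulCommutative_iff_forall.1 hc y hy.1 x hx
  exact inf_eq_left.1 ((hmin _ h2 inf_le_left).resolve_left h1)

theorem kegel_normal_aux (n : ℕ) : ∀ (G : Type u) [Group G] [Finite G], Nat.card G = n →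
    ∀ A B : Subgroup G, Group.IsNilpotent A → Group.IsNilpotent B → IsFactor A B →
      (A ≠ ⊤ ∨ B ≠ ⊤) → ∃ N : Subgroup G, N.Normal ∧ N ≠ ⊤ ∧ (A ≤ N ∨ B ≤ N) := by
  induction n using Nat.strong_induction_on with
  | _ n ih =>
  intro G _ _ hn A B hA hB h hne
  have hs := h.isSolvable_of_isNilpotent hA hB
  have : Nontrivial G := by
    by_contra hc
    rw [not_nontrivial_iff_subsingleton] at hc
    rcases hne with h1 | h1 <;> exact h1 (Subsingleton.elim _ _)
  obtain ⟨p, N, hp, hN, hN1, hNe, hmin⟩ := CfsgLib.Core.exists_elementaryAbelian_minimal_normal G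
  have := Fact.mk hp
  have hNp : IsPGroup p N := CfsgLib.Core.isElementaryAbelian_isPGroup hNe
  have hNc : IsMulCommutative N := (minimal_normal_pgroup hNp hmin).1
  by_cases hc : A ⊔ N = ⊤ ∧ B ⊔ N = ⊤
  · have key : ∀ {A B : Subgroup G}, Group.IsNilpotent A → Group.IsNilpotent B → IsFactor A B →
        A ⊔ N = ⊤ → B ⊔ N = ⊤ → A.Normal := by
      intro A B hA hB h hAN hBN
      have h1 := le_centralizer_sylP_of_minimal hNp hN1 hmin hAN
      have h2 := le_centralizer_sylP_of_minimal hNp hN1 hmin hBN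
      have h3 : normalizer (sylP p B : Set G) = ⊤ := by
        rw [eq_top_iff, ← hBN]
        exact sup_le (le_normalizer_sylP p B) (h2.trans (centralizer_le_normalizer _))
      obtain ⟨-, R, hR⟩ := h.exists_sylow_eq_sup_sylP hA hB p
      have h4 : N ≤ sylP p A ⊔ sylP p B :=
        hR ▸ (CfsgLib.Core.le_pCore hNp).trans (CfsgLib.Core.pCore_le_sylow R)
      have h5 : ∀ q : ℕ, q.Prime → N ≤ centralizer (sylP q A : Set G) := by
        intro q hq
        have := Fact.mk hq
        by_cases e : q = p
        · rw [e]; exact h1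
        have h6 : ¬ q ∣ B.index := by
          intro h'
          have h7 := h'.trans (isFactor_of_sup_eq_top_of_normal_right hBN).index_dvd_card
          obtain ⟨k, hk⟩ := hNp.exists_card_eq
          rw [hk] at h7
          exact e ((Nat.prime_dvd_prime_iff_eq hq hp).1 (hq.dvd_of_dvd_pow h7))
        obtain ⟨g, hg⟩ := exists_le_conj_of_not_dvd_index h6 (isPGroup_sylP q A)
        refine h4.trans (sup_le (sylP_le_centralizer hA hp hq (Ne.symm e) (sylP_le q A)
          (isPGroup_sylP q A)) ?_)
        have h7 := sylP_le_centralizer (isNilpotent_conj_smul hB g) hp hq (Ne.symm e) hg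
          (isPGroup_sylP q A)
        rwa [← conj_smul_sylP, conj_smul_eq_of_mem_normalizer (h3 ▸ mem_top g)] at h7
      rw [← normalizer_eq_top_iff, eq_top_iff, ← hAN]
      refine sup_le le_normalizer fun x hx => mem_normalizer_of_le_conj_smul ?_
      refine le_of_forall_sylP_le hA fun q hq _ => ?_
      rw [← conj_smul_eq_of_mem_normalizer (centralizer_le_normalizer _ (h5 q hq hx))]
      exact conj_smul_mono x (sylP_le q A)
    rcases hne with h1 | h1
    · exact ⟨A, key hA hB h hc.1 hc.2, h1, Or.inl le_rfl⟩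
    · exact ⟨B, key hB hA h.symm hc.2 hc.1, h1, Or.inr le_rfl⟩
  · obtain ⟨M, hM, hMt, hle⟩ := ih _ (hn ▸ CfsgLib.Core.card_quotient_lt_of_ne_bot hN1) (G ⧸ N) rfl
      _ _ (CfsgLib.Core.isNilpotent_map _ A) (CfsgLib.Core.isNilpotent_map _ B)
      (h.map (QuotientGroup.mk'_surjective N)) (by
        rw [not_and_or] at hc
        refine hc.imp (fun h1 e => h1 ?_) (fun h1 e => h1 ?_) <;>
          rw [← comap_map_mk', e, comap_top])
    refine ⟨M.comap (QuotientGroup.mk' N), inferInstance, fun e => hMt ?_,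
      hle.imp map_le_iff_le_comap.1 map_le_iff_le_comap.1⟩
    rw [← map_comap_mk' N M, e, map_top_of_surjective _ (QuotientGroup.mk'_surjective N)]

theorem commutator_eq_bot_of_metabelian [hA : IsMulCommutative A] (h : IsFactor A B)
    (hB : B ≤ centralizer ((⁅B, B⁆ : Subgroup G) : Set G)) (hsup : A ⊔ ⁅B, B⁆ = ⊤)
    (hG : IsMulCommutative (_root_.commutator G)) : A = ⊤ := by
  set D : Subgroup G := ⁅B, B⁆ with hD
  set C := centralizer (D : Set G) with hC
  have h1 : _root_.commutator G ≤ C := fun x hx y hy =>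
    CfsgLib.Core.isMulCommutative_iff_forall.1 hG y (commutator_mono le_top le_top hy) x hx
  have hCn : C.Normal := by
    constructor
    intro x hx g
    have : g * x * g⁻¹ = (g * x * g⁻¹ * x⁻¹) * x := by group
    rw [this]
    exact C.mul_mem (h1 (commutator_mem_commutator (mem_top g) (mem_top x))) hx
  have h2 : C ≤ B ⊔ center G := by
    intro c hc
    obtain ⟨b, hb, a, ha, rfl⟩ := h.symm c
    have haC : a ∈ C := by
      have := C.mul_mem (C.inv_mem (hB hb)) hc
      rwa [inv_mul_cancel_left] at this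
    refine mul_mem (mem_sup_left hb) (mem_sup_right ?_)
    rw [← centralizer_univ, ← coe_top, ← hsup, CfsgLib.Core.centralizer_sup]
    exact ⟨fun y hy => CfsgLib.Core.isMulCommutative_iff_forall.1 hA y hy a ha, haC⟩
  have h3 : ⁅C, C⁆ = D := by
    refine le_antisymm ((commutator_mono h2 h2).trans ?_) (commutator_mono hB hB)
    rw [CfsgLib.Core.commutator_sup_self_of_le_centralizer (center_le_centralizer _)]
  have hDn : D.Normal := h3 ▸ inferInstance
  have hDB : D ≤ B := CfsgLib.Core.commutator_le_of_le le_rfl le_rfl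
  have h4 : B = (A ⊓ B) ⊔ D := by
    rw [sup_comm, ← CfsgLib.Core.sup_inf_assoc_of_normal_left hDB, sup_comm, hsup, top_inf_eq]
  have h5 : D = ⊥ := by
    have h6 : ⁅(A ⊓ B) ⊔ D, (A ⊓ B) ⊔ D⁆ = ⁅A ⊓ B, A ⊓ B⁆ :=
      CfsgLib.Core.commutator_sup_self_of_le_centralizer (by
        rw [← h4]; exact le_centralizer_iff.1 hB)
    rw [← h4] at h6
    rw [hD, h6, commutator_eq_bot_iff_le_centralizer]
    exact fun x hx y hy => CfsgLib.Core.isMulCommutative_iff_forall.1 hA y hy.1 x hx.1
  rwa [h5, sup_bot_eq] at hsup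

theorem eq_top_of_sup_commutator [Finite G] [hA : IsMulCommutative A] (h : IsFactor A B)
    (hB : B ≤ centralizer ((⁅B, B⁆ : Subgroup G) : Set G)) (hsup : A ⊔ ⁅B, B⁆ = ⊤) : A = ⊤ := by
  have hBn : Group.IsNilpotent B := CfsgLib.Core.isNilpotent_of_commutator_commutator_eq_bot
    (by rw [commutator_eq_bot_iff_le_centralizer]; exact le_centralizer_iff.1 hB)
  have hs := h.isSolvable_of_isNilpotent CfsgLib.Core.isNilpotent_of_isMulCommutative hBn
  set D : Subgroup G := ⁅_root_.commutator G, _root_.commutator G⁆ with hD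
  set f := QuotientGroup.mk' D with hf
  have hfs : Function.Surjective f := QuotientGroup.mk'_surjective D
  have h1 : A.map f = ⊤ := by
    apply commutator_eq_bot_of_metabelian (h.map hfs)
    · rw [← map_commutator]
      rintro _ ⟨x, hx, rfl⟩ _ ⟨y, hy, rfl⟩
      rw [← map_mul, ← map_mul, hB hx y hy]
    · rw [← map_commutator, ← Subgroup.map_sup, hsup, map_top_of_surjective _ hfs]
    · rw [← le_centralizer_iff_isMulCommutative, ← commutator_eq_bot_iff_le_centralizer,
        ← map_commutator_mk', ← map_commutator, map_mk'_eq_bot_iff]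
  have h2 : _root_.commutator G ≤ D := by
    rw [← map_mk'_eq_bot_iff, map_commutator_mk', commutator_def (G ⧸ D), ← h1,
      commutator_eq_bot_iff_le_centralizer, le_centralizer_iff_isMulCommutative]
    infer_instance
  have h3 : _root_.commutator G = ⊥ := by
    by_contra hne
    exact (CfsgLib.Core.commutator_self_lt_of_isSolvable hne).not_ge h2
  have h4 : (⁅B, B⁆ : Subgroup G) = ⊥ := le_bot_iff.1 (h3 ▸ commutator_mono le_top le_top)
  rwa [h4, sup_bot_eq] at hsup

theorem derivedSeries_add_le_map {H : Subgroup G} {i : ℕ} (h : derivedSeries G i ≤ H) (k : ℕ) :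
    derivedSeries G (i + k) ≤ (derivedSeries H k).map H.subtype := by
  induction k with
  | zero => simpa [← MonoidHom.range_eq_map] using h
  | succ k ih =>
    rw [← add_assoc, derivedSeries_succ, derivedSeries_succ, map_commutator]
    exact commutator_mono ih ih

theorem derivedSeries_class_two_aux (n : ℕ) : ∀ (G : Type u) [Group G] [Finite G]
    (A B : Subgroup G) [IsMulCommutative A], IsFactor A B →
    B ≤ centralizer ((⁅B, B⁆ : Subgroup G) : Set G) →
    (Nat.card (⁅B, B⁆ : Subgroup G)).primeFactorsList.length ≤ n →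
    derivedSeries G (2 * (1 + n)) = ⊥ := by
  have base : ∀ (G : Type u) [Group G] (A B : Subgroup G) [IsMulCommutative A], IsFactor A B →
      (⁅B, B⁆ : Subgroup G) = ⊥ → derivedSeries G 2 = ⊥ := by
    intro G _ A B _ h hB
    rw [commutator_eq_bot_iff_le_centralizer, le_centralizer_iff_isMulCommutative] at hB
    exact h.derivedSeries_two
  induction n with
  | zero =>
    intro G _ _ A B _ h hB hn
    apply base G A B h
    rw [Nat.le_zero, List.length_eq_zero_iff, Nat.primeFactorsList_eq_nil] at hn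
    exact card_eq_one.1 (hn.resolve_left Nat.card_pos.ne')
  | succ n ih =>
    intro G _ _ A B _ h hB hn
    by_cases hb : (⁅B, B⁆ : Subgroup G) = ⊥
    · exact le_bot_iff.1 ((derivedSeries_antitone G (by omega)).trans (base G A B h hb).le)
    set D : Subgroup G := ⁅B, B⁆ with hD
    set H := A ⊔ D with hH
    have hDB : D ≤ B := CfsgLib.Core.commutator_le_of_le le_rfl le_rfl
    have hf := h.subgroupOf_of_le (le_sup_left : A ≤ H)
    have hmap : (⁅B.subgroupOf H, B.subgroupOf H⁆ : Subgroup H).map H.subtype ≤ D := by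
      rw [map_commutator, subgroupOf_map_subtype]
      exact commutator_mono inf_le_left inf_le_left
    have hB' : B.subgroupOf H ≤
        centralizer ((⁅B.subgroupOf H, B.subgroupOf H⁆ : Subgroup H) : Set H) := by
      intro x hx y hy
      exact Subtype.ext (hB hx y (hmap ⟨y, hy, rfl⟩))
    have hlt : (⁅B.subgroupOf H, B.subgroupOf H⁆ : Subgroup H).map H.subtype ≠ D := by
      intro e
      have h1 : A.subgroupOf H = ⊤ := by
        apply eq_top_of_sup_commutator hf hB'
        apply map_injective H.subtype_injective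
        rw [Subgroup.map_sup, e, subgroupOf_map_subtype, inf_eq_left.2 le_sup_left,
          ← MonoidHom.range_eq_map, range_subtype]
      have h2 : H ≤ A := subgroupOf_eq_top.1 h1
      apply hb
      rw [← e, map_commutator, subgroupOf_map_subtype, commutator_eq_bot_iff_le_centralizer]
      exact fun x hx y hy =>
        CfsgLib.Core.isMulCommutative_iff_forall.1 inferInstance y (h2 hy.2) x (h2 hx.2)
    have h1 := ih H _ _ hf hB' (by
      have h2 := card_mul_relIndex hmap
      have h3 := relIndex_eq_one.not.2 fun e => hlt (le_antisymm hmap e)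
      rw [card_map_subtype] at h2
      have h4 := (Nat.perm_primeFactorsList_mul Nat.card_pos.ne'
        (index_ne_zero_of_finite (H := _))).length_eq
        (l₁ := (Nat.card (⁅B.subgroupOf H, B.subgroupOf H⁆ : Subgroup H) *
          ((⁅B.subgroupOf H, B.subgroupOf H⁆ : Subgroup H).map H.subtype).relIndex D).primeFactorsList)
      rw [h2, List.length_append] at h4
      have h5 : (((⁅B.subgroupOf H, B.subgroupOf H⁆ : Subgroup H).map H.subtype).relIndex
          D).primeFactorsList.length ≠ 0 := by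
        rw [Ne, List.length_eq_zero_iff, Nat.primeFactorsList_eq_nil, not_or]
        exact ⟨index_ne_zero_of_finite, h3⟩
      simp only [relIndex] at h4 h5
      change (Nat.card (⁅B.subgroupOf H, B.subgroupOf H⁆ : Subgroup H)).primeFactorsList.length ≤ n
      omega)
    have h2 : D ≤ H.normalCore := by
      intro x hx g
      obtain ⟨a, ha, b, hb, rfl⟩ := h g
      have e : a * b * x * (a * b)⁻¹ = a * x * a⁻¹ := by
        rw [mul_assoc a, ← hB hb x hx]; group
      rw [e]
      exact H.mul_mem (H.mul_mem (mem_sup_left ha) (mem_sup_right hx)) (H.inv_mem (mem_sup_left ha))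
    have h3 : derivedSeries G 2 ≤ H := by
      refine le_trans ?_ H.normalCore_le
      have hfs := QuotientGroup.mk'_surjective H.normalCore
      rw [← map_mk'_eq_bot_iff, map_derivedSeries_eq hfs]
      apply base _ _ _ (h.map hfs)
      rwa [← map_commutator, map_mk'_eq_bot_iff]
    have h4 := derivedSeries_add_le_map h3 (2 * (1 + n))
    rw [h1, Subgroup.map_bot, le_bot_iff] at h4
    rw [← h4]
    congr 1
    ring

end CfsgLib.SolvStruct
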